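import Mathlib

/-! TIM, package CW (plans/TIM.md). -/

set_option autoImplicit false

namespace CfsgLib.Tim
open Module

section Deg

variable {Γ E : Type*} [Group Γ] [Field E]

/-- `f` is killed by any `n` difference operators -/
def CwD : ℕ → (Γ → E) → Prop
  | 0, f => ∀ u, f u = 0
  | n + 1, f => ∀ a, CwD n fun u => f (u * a) - f u

theorem cwD_zero : ∀ n, CwD n fun _ : Γ => (0 : E)
  | 0 => fun _ => rfl
  | n + 1 => fun _ => by simpa using cwD_zero n

theorem CwD.succ : ∀ {n} {f : Γ → E}, CwD n f → CwD (n + 1) f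
  | 0, _, h => fun a u => by simp only [h _, sub_self]
  | _ + 1, _, h => fun a => (h a).succ

theorem CwD.add : ∀ {n} {f g : Γ → E}, CwD n f → CwD n g → CwD n fun u => f u + g u
  | 0, _, _, h, k => fun u => by simp only [h _, k _, add_zero]
  | _ + 1, _, _, h, k => fun a => by simpa only [add_sub_add_comm] using (h a).add (k a)

theorem CwD.map (σ : E →+ E) : ∀ {n} {f : Γ → E}, CwD n f → CwD n fun u => σ (f u)
  | 0, _, h => fun u => by simp only [h _, map_zero]
  | _ + 1, _, h => fun a => by simpa only [map_sub] using CwD.map σ (h a)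

theorem CwD.shift {n : ℕ} {f : Γ → E} (h : CwD (n + 1) f) (a : Γ) : CwD (n + 1) fun u => f (u * a) := by
  simpa only [sub_add_cancel] using (h a).succ.add h

theorem CwD.mul : ∀ {k m n} {f g : Γ → E}, m + n ≤ k + 1 → CwD m f → CwD n g → CwD k fun u => f u * g u
  | k, 0, _, _, _, _, h, _ => by simpa only [h _, zero_mul] using cwD_zero k
  | k, _ + 1, 0, _, _, _, _, h => by simpa only [h _, mul_zero] using cwD_zero k
  | 0, _ + 1, _ + 1, _, _, e, _, _ => by omega
  | k + 1, m + 1, n + 1, f, g, e, h, h' => fun a => by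
    have := (CwD.mul (k := k) (by omega) (h a) (h'.shift a)).add (CwD.mul (k := k) (by omega) h (h' a))
    simpa only [sub_mul, mul_sub, sub_add_sub_cancel] using this

theorem CwD.card_le [Finite Γ] (h2 : IsPGroup 2 Γ) : ∀ {n} {g : Γ → E} {H : Subgroup Γ}, CwD n g → g 1 ≠ 0 →
    (∀ u ∈ H, u ≠ 1 → g u = 0) → 2 * Nat.card H ≤ 2 ^ n
  | 0, _, _, h, h1, _ => (h1 (h 1)).elim
  | n + 1, g, H, h, h1, h0 => by
    by_contra hlt
    have hlt' : 2 ^ n < Nat.card H := by omega
    obtain ⟨K, hK, hc⟩ := Sylow.exists_subgroup_le_card_pow_prime_of_le_card Nat.prime_two h2 hlt'.le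
    obtain ⟨a, ha, na⟩ := SetLike.exists_of_lt (lt_of_le_of_ne hK fun e => hlt'.ne (by rw [← hc, e]))
    have k : ∀ u ∈ K, g (u * a) = 0 := fun u hu => h0 _ (mul_mem (hK hu) ha) fun e =>
      na (eq_inv_of_mul_eq_one_right e ▸ inv_mem hu)
    have := CwD.card_le h2 (H := K) (h a) (by simpa only [k 1 (one_mem _), zero_sub, ne_eq, neg_eq_zero] using h1)
      fun u hu u1 => by simp only [k u hu, h0 u (hK hu) u1, sub_self]
    have := Nat.two_pow_pos n
    omega

end Deg

theorem cw {E N : Type*} [Field E] [Finite E] [AddCommGroup N] [Module E N] (two : (2 : E) = 0)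
    (U : Subgroup (N ≃ₗ[E] N)) [Finite U] (sq : ∀ u ∈ U, u * u = 1) (S₁ S₂ S₃ : Submodule E N)
    (h1 : ∀ u ∈ U, ∀ n, u n - n ∈ S₁) (h2 : ∀ u ∈ U, ∀ n ∈ S₁, u n - n ∈ S₂)
    (h3 : ∀ u ∈ U, ∀ n ∈ S₂, u n - n ∈ S₃) (h4 : ∀ u ∈ U, ∀ n ∈ S₃, u n = n)
    (φ : N →ₗ[E] E) (v : N) (h : ∀ u ∈ U, φ (u v) = 0 ↔ u = 1) : Nat.card U ≤ Nat.card E ^ 3 := by
  have : CharP E 2 := CharTwo.of_one_ne_zero_of_two_eq_zero one_ne_zero two
  have := Fintype.ofFinite E
  obtain ⟨r, -, hr⟩ := FiniteField.card E 2
  have st : ∀ k n, (∀ a : U, CwD k fun u : U => φ (u.1 (a.1 n - n))) → CwD (k + 1) fun u : U => φ (u.1 n) :=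
    fun k n e a => by simpa only [map_sub, Subgroup.coe_mul, LinearEquiv.mul_apply] using e a
  have d4 : CwD 4 fun u : U => φ (u.1 v) :=
    st _ _ fun a => st _ _ fun b => st _ _ fun c => st _ _ fun d u => by
      simp only [h4 _ d.2 _ (h3 _ c.2 _ (h2 _ b.2 _ (h1 _ a.2 v))), sub_self, map_zero]
  have d1 : CwD 1 fun _ : U => (1 : E) := fun _ _ => sub_self _
  have dr : ∀ r : ℕ, CwD (3 * r + 1) fun u : U => 1 - φ (u.1 v) ^ (2 ^ r - 1) := fun r => by
    have : CwD (3 * r + 1) fun u : U => φ (u.1 v) ^ (2 ^ r - 1) := by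
      induction r with
      | zero => simpa using d1
      | succ r ih =>
        have := CwD.mul (k := 3 * (r + 1) + 1) (by omega) (d4.map (iterateFrobenius E 2 r).toAddMonoidHom) ih
        have e : 2 ^ r + (2 ^ r - 1) = 2 ^ (r + 1) - 1 := by have := Nat.two_pow_pos r; omega
        simpa only [RingHom.toAddMonoidHom_eq_coe, AddMonoidHom.coe_coe, iterateFrobenius_def, ← pow_add, e] using this
    intro a
    simpa only [AddMonoidHom.neg_apply, AddMonoidHom.id_apply, neg_sub, sub_sub_sub_cancel_left] using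
      (this a).map (-AddMonoidHom.id E)
  have := (dr r).card_le (H := ⊤) (fun u => ⟨1, Subtype.ext ((pow_two u.1).trans (sq _ u.2))⟩)
    (by rw [(h _ (1 : U).2).2 rfl, zero_pow (by rw [← hr]; have := Fintype.one_lt_card (α := E); omega)]; simp)
    fun u _ u1 => by
      rw [← hr, FiniteField.pow_card_sub_one_eq_one _ fun e => u1 (Subtype.ext ((h _ u.2).1 e)), sub_self]
  rw [Subgroup.card_top, pow_succ] at this
  rw [Nat.card_eq_fintype_card (α := E), hr, ← pow_mul, mul_comm]
  omega

theorem finrank_ne_three {E M : Type*} [Field E] [AddCommGroup M] [Module E M]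
    (B : M →ₗ[E] M →ₗ[E] E) (alt : ∀ x, B x x = 0) (nd : ∀ x, (∀ y, B x y = 0) → x = 0) :
    finrank E M ≠ 3 := by
  intro h
  have := Module.finite_of_finrank_eq_succ h
  let b := Module.finBasisOfFinrankEq E M h
  have sk : ∀ x y, B x y = -B y x := fun x y => by
    have := alt (x + y)
    simp only [map_add, LinearMap.add_apply, alt] at this
    linear_combination this
  have k : ∀ x, (∀ i, B x (b i) = 0) → x = 0 := fun x e => nd x fun y => by
    rw [show B x = 0 from b.ext e, LinearMap.zero_apply]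
  have h0 := k (B (b 1) (b 2) • b 0 + B (b 2) (b 0) • b 1 + B (b 0) (b 1) • b 2) fun i => by
    fin_cases i <;> simp [alt, sk (b 1) (b 0), sk (b 2) (b 1), sk (b 2) (b 0)] <;> ring
  have h1 := congrArg (fun x => b.repr x 1) h0
  have h2 := congrArg (fun x => b.repr x 2) h0
  simp at h1 h2
  refine b.ne_zero 0 (k _ fun i => ?_)
  fin_cases i
  · exact alt _
  · exact h2
  · exact (sk _ _).trans (neg_eq_zero.2 h1)

/-- scalar multiples are determined by the forms -/
theorem exists_module {E N : Type*} [Field E] [AddCommGroup N] (two : (2 : E) = 0) (κ : N → E)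
    (b : N →+ N →+ E) (hb : ∀ x y, κ (x + y) = κ x + κ y + b x y) (alt : ∀ x, b x x = 0)
    (an : ∀ n, (∀ m, b n m = 0) → κ n = 0 → n = 0) (S : Set N) (hS : AddSubgroup.closure S = ⊤)
    (ex : ∀ l : E, ∀ n ∈ S, ∃ n', (∀ m, b n' m = l * b n m) ∧ κ n' = l ^ 2 * κ n) :
    ∃ _ : Module E N, ∀ (l : E) (n n' : N), n' = l • n ↔ (∀ m, b n' m = l * b n m) ∧ κ n' = l ^ 2 * κ n := by
  have sk : ∀ x y, b x y = -b y x := fun x y => by
    have := alt (x + y)
    simp only [map_add, AddMonoidHom.add_apply, alt] at this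
    linear_combination this
  have k0 : κ 0 = 0 := by simpa using hb 0 0
  have kn : ∀ x, κ (-x) = -κ x := fun x => by
    have := hb x (-x)
    rw [add_neg_cancel, k0, map_neg, alt] at this
    linear_combination -this
  let R : E → N → N → Prop := fun l n n' => (∀ m, b n' m = l * b n m) ∧ κ n' = l ^ 2 * κ n
  have uq : ∀ {l n n' n''}, R l n n' → R l n n'' → n' = n'' := fun {l n n' n''} h h' => by
    have e : ∀ m, b (n' - n'') m = 0 := fun m => by rw [map_sub, AddMonoidHom.sub_apply, h.1, h'.1, sub_self]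
    have := hb (n' - n'') n''
    rw [sub_add_cancel, e, h.2, h'.2] at this
    exact sub_eq_zero.1 (an _ e (by linear_combination -this))
  have ad : ∀ {l x y x' y'}, R l x x' → R l y y' → R l (x + y) (x' + y') := fun {l x y x' y'} h h' =>
    ⟨fun m => by simp only [map_add, AddMonoidHom.add_apply, h.1, h'.1, mul_add], by
      rw [hb, hb, h.2, h'.2, h.1, sk x y', h'.1, sk y x]; ring⟩
  have all : ∀ l n, ∃ n', R l n n' := fun l n => by
    have hn : n ∈ AddSubgroup.closure S := hS ▸ AddSubgroup.mem_top n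
    induction hn using AddSubgroup.closure_induction with
    | mem n hn => exact ex l n hn
    | zero => exact ⟨0, by simp, by simp [k0]⟩
    | add x y _ _ hx hy => exact hx.elim fun _ h => hy.elim fun _ h' => ⟨_, ad h h'⟩
    | neg x _ hx =>
      exact hx.elim fun x' h => ⟨-x', fun m => by simp [h.1], by rw [kn, kn, h.2, mul_neg]⟩
  choose s hs using all
  let _ : SMul E N := ⟨s⟩
  refine ⟨Module.ofMinimalAxioms (fun l x y => uq (hs l _) (ad (hs l x) (hs l y))) (fun l m x => uq (hs _ x) ?_)
    (fun l m x => uq (hs _ x) ?_) (fun x => uq (hs 1 x) ⟨by simp, by simp⟩), fun l n n' =>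
      ⟨fun e => e ▸ hs l n, fun h => uq h (hs l n)⟩⟩
  · change R _ _ (s l x + s m x)
    refine ⟨fun n => by simp only [map_add, AddMonoidHom.add_apply, (hs _ x).1, add_mul], ?_⟩
    rw [hb, (hs l x).2, (hs m x).2, (hs l x).1, sk, (hs m x).1, alt]
    linear_combination (-l * m * κ x) * two
  · change R _ _ (s l (s m x))
    exact ⟨fun n => by rw [(hs l _).1, (hs m x).1, mul_assoc], by rw [(hs l _).2, (hs m x).2]; ring⟩

theorem card_perp {E N : Type*} [Field E] [AddCommGroup N] [Module E N] [Finite N]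
    (κ : QuadraticForm E N) (S S' : Submodule E N)
    (hS : ∀ n ∈ S, (∀ m, QuadraticMap.polar κ n m = 0) → n = 0)
    (hS' : ∀ m, m ∈ S' ↔ ∀ n ∈ S, QuadraticMap.polar κ n m = 0) :
    Nat.card S * Nat.card S' = Nat.card N := by
  have hr : LinearMap.BilinForm.IsRefl (QuadraticMap.polarBilin κ) := fun x y h =>
    (QuadraticMap.polar_comm κ y x).trans h
  have h1 := LinearMap.BilinForm.finrank_add_finrank_orthogonal hr S
  have h2 : S ⊓ LinearMap.BilinForm.orthogonal (QuadraticMap.polarBilin κ) ⊤ = ⊥ :=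
    eq_bot_iff.2 fun n hn => hS n hn.1 fun m => hr _ _ (hn.2 m trivial)
  have h3 : LinearMap.BilinForm.orthogonal (QuadraticMap.polarBilin κ) S = S' := Submodule.ext fun m => (hS' m).symm
  rw [h2, h3, finrank_bot, add_zero] at h1
  rw [natCard_eq_pow_finrank (K := E), natCard_eq_pow_finrank (K := E) (V := S'), ← pow_add, h1,
    ← natCard_eq_pow_finrank]

theorem exists_rep {E N : Type*} [Field E] [AddCommGroup N] [Module E N] [Finite N]
    (κ : QuadraticForm E N) (φ : N →ₗ[E] E)
    (h : ∀ n, (∀ m, QuadraticMap.polar κ n m = 0) → φ n = 0) :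
    ∃ r, ∀ n, φ n = QuadraticMap.polar κ r n := by
  have : φ ∈ LinearMap.range (QuadraticMap.polarBilin κ) := by
    rw [← Subspace.dualCoannihilator_dualAnnihilator_eq (W := LinearMap.range (QuadraticMap.polarBilin κ)),
      Submodule.mem_dualAnnihilator]
    exact fun n hn => h n fun m => (QuadraticMap.polar_comm κ n m).trans
      ((Submodule.mem_dualCoannihilator _).1 hn _ ⟨m, rfl⟩)
  obtain ⟨r, rfl⟩ := this
  exact ⟨r, fun _ => rfl⟩

/-- an odd number of pairwise non-orthogonal singular vectors that span a space over `𝔽₂` -/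
theorem two_span {E N I : Type*} [Field E] [AddCommGroup N] [Module E N] [Fintype I] {k : ℕ}
    (hE : Nat.card E = 2) (κ : QuadraticForm E N) (v : I → N) (hI : Fintype.card I = 2 * k + 1)
    (h0 : ∀ i, κ (v i) = 0) (h1 : ∀ i j, i ≠ j → QuadraticMap.polar κ (v i) (v j) ≠ 0)
    (sp : Submodule.span E (Set.range v) = ⊤) :
    (∀ n, (∀ m, QuadraticMap.polar κ n m = 0) ↔ n = 0 ∨ n = ∑ i, v i) ∧ κ (∑ i, v i) = k ∧
      (∑ i, v i = 0 → Nat.card N = 2 ^ (2 * k)) ∧ (∑ i, v i ≠ 0 → Nat.card N = 2 ^ (2 * k + 1)) ∧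
      (k = 1 → ∀ n, κ n = 0 → n = 0 ∨ ∃ i, n = v i) := by
  classical
  have e01 : ∀ x : E, x = 0 ∨ x = 1 := fun x => by
    obtain ⟨y, -, hy⟩ := (Nat.card_eq_two_iff' (0 : E)).1 hE
    exact or_iff_not_imp_left.2 fun h => (hy x h).trans (hy 1 one_ne_zero).symm
  have two : (2 : E) = 0 := (e01 2).resolve_right fun h => one_ne_zero (α := E) (by linear_combination h)
  have pv : ∀ i j, QuadraticMap.polar κ (v i) (v j) = 1 - if i = j then 1 else 0 := fun i j => by
    split_ifs with h
    · rw [h, QuadraticMap.polar_self, h0, smul_zero, sub_self]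
    · rw [sub_zero, (e01 _).resolve_left (h1 i j h)]
  let p := Fintype.linearCombination E v
  have ps : Function.Surjective p := by rw [← LinearMap.range_eq_top, Fintype.range_linearCombination, sp]
  have pp : ∀ c j, QuadraticMap.polar κ (p c) (v j) = ∑ i, c i - c j := fun c j => by
    rw [← QuadraticMap.polarBilin_apply_apply, Fintype.linearCombination_apply, map_sum, LinearMap.sum_apply]
    simp [pv, mul_sub]
  have p1 : p 1 = ∑ i, v i := by simp [p, Fintype.linearCombination_apply]
  have rad : ∀ c, (∀ m, QuadraticMap.polar κ (p c) m = 0) → c = 0 ∨ c = 1 := fun c h =>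
    (e01 (∑ i, c i)).imp (fun e => funext fun j => by have := h (v j); rw [pp, e] at this; simpa using this)
      fun e => funext fun j => by have := h (v j); rw [pp, e] at this; exact (sub_eq_zero.1 this).symm
  have ks : ∀ s : Finset I, κ (∑ i ∈ s, v i) = s.card.choose 2 := fun s => by
    induction s using Finset.induction_on with
    | empty => simp
    | insert a s ha ih =>
      rw [Finset.sum_insert ha, QuadraticMap.map_add κ, h0, ih, Finset.card_insert_of_notMem ha, Nat.choose_succ_succ',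
        ← QuadraticMap.polarBilin_apply_apply, map_sum, Finset.sum_congr rfl (g := fun _ => (1 : E)) fun i hi => by
          rw [QuadraticMap.polarBilin_apply_apply, pv, if_neg (ne_of_mem_of_not_mem hi ha).symm, sub_zero]]
      simp [add_comm]
  have cd : Nat.card (LinearMap.ker p) * Nat.card N = 2 ^ (2 * k + 1) := by
    rw [← Nat.card_congr (p.quotKerEquivOfSurjective ps).toEquiv, ← Submodule.card_eq_card_quotient_mul_card,
      Nat.card_fun, hE, Nat.card_eq_fintype_card, hI]
  have ne : Nonempty I := Fintype.card_pos_iff.1 (by omega)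
  refine ⟨fun n => ⟨fun h => ?_, ?_⟩, ?_, fun h => ?_, fun h => ?_, fun hk n hn => ?_⟩
  · obtain ⟨c, rfl⟩ := ps n
    exact (rad c h).imp (fun e => by rw [e, map_zero]) fun e => by rw [e, p1]
  · rintro (rfl | rfl) m
    · exact QuadraticMap.polar_zero_left κ m
    have : QuadraticMap.polarBilin κ (p 1) = 0 := LinearMap.ext_on_range sp fun j => by
      rw [QuadraticMap.polarBilin_apply_apply, pp]
      simp only [Pi.one_apply, Finset.sum_const, Finset.card_univ, hI, nsmul_eq_mul, mul_one, LinearMap.zero_apply]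
      push_cast
      linear_combination (k : E) * two
    rw [← p1, ← QuadraticMap.polarBilin_apply_apply, this, LinearMap.zero_apply]
  · rw [ks, Finset.card_univ, hI, Nat.choose_two_right, Nat.add_sub_cancel, mul_left_comm,
      Nat.mul_div_cancel_left _ two_pos]
    push_cast
    linear_combination (k : E) ^ 2 * two
  · have : Nat.card (LinearMap.ker p) = 2 := (Nat.card_eq_two_iff' 0).2 ⟨⟨1, p1.trans h⟩,
      fun e => one_ne_zero (congrArg Subtype.val e), fun c hc => Subtype.ext ((rad c.1 fun m => by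
        rw [show p c.1 = 0 from c.2, QuadraticMap.polar_zero_left]).resolve_left fun e => hc (Subtype.ext e))⟩
    rw [this, pow_succ] at cd
    omega
  · have : LinearMap.ker p = ⊥ := eq_bot_iff.2 fun c hc => (rad c fun m => by
      rw [show p c = 0 from hc, QuadraticMap.polar_zero_left]).resolve_right fun e => h (by rw [← p1, ← e]; exact hc)
    rwa [this, Nat.card_unique, one_mul] at cd
  · obtain ⟨c, rfl⟩ := ps n
    have e : p c = ∑ i ∈ Finset.univ.filter (c · = 1), v i := by
      rw [Fintype.linearCombination_apply, Finset.sum_filter]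
      exact Finset.sum_congr rfl fun i _ => by rcases e01 (c i) with h | h <;> simp [h]
    rw [e] at hn ⊢
    generalize Finset.univ.filter (c · = 1) = s at hn ⊢
    have := s.card_le_univ
    rw [ks] at hn
    obtain h | h | h | h : s.card = 0 ∨ s.card = 1 ∨ s.card = 2 ∨ s.card = 3 := by omega
    · exact .inl (by rw [Finset.card_eq_zero.1 h, Finset.sum_empty])
    · obtain ⟨i, rfl⟩ := Finset.card_eq_one.1 h
      exact .inr ⟨i, Finset.sum_singleton _ _⟩
    · simp [h] at hn
    · rw [h] at hn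
      exact absurd (by norm_num at hn; linear_combination hn - two) (one_ne_zero (α := E))

end CfsgLib.Tim
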