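import Mathlib
import Cfsg.Agent.Lib.LnS.Tool

/-! Points and lines of a class of involutions with Timmesfeld's hypothesis (plans/TIM.md). -/

set_option autoImplicit false

namespace CfsgLib.Tim
open Subgroup CfsgLib.Tech
open scoped commutatorElement CfsgLib.BG

/-- the group generated by the members of `D` that commute with `d` -/
def QQ {G : Type*} [Group G] (D : Set G) (d : G) : Subgroup G := closure {y | y ∈ D ∧ y * d = d * y}

/-- the non-degenerate case of the hypothesis -/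
structure Tm (G : Type*) [Group G] where
  D : Set G
  d0 : G
  d0_mem : d0 ∈ D
  conj : ∀ {d}, d ∈ D → ∀ g, g * d * g⁻¹ ∈ D
  trans : ∀ {d e}, d ∈ D → e ∈ D → ∃ g, g * d * g⁻¹ = e
  sq : ∀ {d}, d ∈ D → d * d = 1
  ne : ∀ {d}, d ∈ D → d ≠ 1
  mul : ∀ {d e}, d ∈ D → e ∈ D → d ≠ e → d * e = e * d → d * e ∈ D
  two : ∀ {d}, d ∈ D → IsPGroup 2 (QQ D d)
  cls : ∀ {d x y z}, d ∈ D → x ∈ QQ D d → y ∈ QQ D d → z ∈ QQ D d → ⁅x, y⁆ * z = z * ⁅x, y⁆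
  gen : ∀ {d x} {H : Subgroup G}, d ∈ D → x ∈ D → x ≠ d → Odd (orderOf (d * x)) → QQ D d ≤ H →
    x ∈ H → H = ⊤
  four : ∃ d ∈ D, ∃ x ∈ QQ D d, ∃ y ∈ QQ D d, x * y ≠ y * x
  nab : ¬ IsMulCommutative G

namespace Tm

variable {G : Type*} [Group G] (T : Tm G)

def Q (d : G) : Subgroup G := QQ T.D d

/-- the point of `d` -/
def A (d : G) : Subgroup G := closure {e | e ∈ T.D ∧ T.Q e = T.Q d}

/-- the line through `d` and `e` -/
def V (d e : G) : Subgroup G := T.A d ⊔ T.A e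

def Y (d e : G) : Subgroup G := T.Q d ⊓ 𝒞[e]

def W (d e : G) : Subgroup G := T.Q d ⊓ T.Q e

def R (d e : G) : Subgroup G := T.Y d e ⊔ T.Y e d

def X (d e : G) : Subgroup G := T.Q d ⊔ T.Q e

/-- the centre of `Q d` -/
def Z (d : G) : Subgroup G := T.Q d ⊓ 𝒞(T.Q d)

/-- collinear points -/
structure Col (d e : G) : Prop where
  l : d ∈ T.D
  r : e ∈ T.D
  comm : d * e = e * d
  nm : e ∉ T.A d

/-- `a` and `c` on two different lines through `b` -/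
structure Ang (a b c : G) : Prop where
  l : T.Col b a
  r : T.Col b c
  nc : a * c ≠ c * a

/-- a path of length three -/
structure Pth (a b c x : G) : Prop where
  l : T.Ang a b c
  r : T.Ang b c x

def Near (x y : G) : Prop := ∃ w ∈ T.D, w * x = x * w ∧ w * y = y * w

structure Far (x y : G) : Prop where
  l : x ∈ T.D
  r : y ∈ T.D
  not_near : ¬ T.Near x y

def L (d : G) : Subgroup G := T.Q d ⊔ ⨆ (e : G) (_ : T.Col d e), T.Y e d

/-- the elements that fix all lines through `d` -/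
def K (d : G) : Subgroup G := 𝒩(T.Q d) ⊓ ⨅ (e : G) (_ : T.Col d e), 𝒩(T.V d e)

/-- the lines through `d` -/
def Lam (d : G) : Set (Subgroup G) := {U | ∃ e, T.Col d e ∧ U = T.V d e}

noncomputable def q : ℕ := Nat.card (T.A T.d0)

noncomputable def t : ℕ := (T.Lam T.d0).ncard - 1

/-- the root group of the path `a, b, c, x` -/
def U (a b c x : G) : Subgroup G := T.W b c ⊓ 𝒞(T.A a) ⊓ 𝒞(T.A x)

/-- the generic case -/
structure Gen : Prop where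
  four : 4 ≤ T.t
  cW : ∀ {d e}, T.Col d e → T.Q d ⊓ 𝒞(T.W d e) ≤ T.W d e

/-- the cases `U₃(3)`, `J₂` -/
structure Sm : Prop where
  q2 : T.q = 2
  t2 : 2 ≤ T.t
  WV : ∀ {d e}, T.Col d e → T.W d e = T.V d e

/-- `Q d / A d` as a quadratic space -/
structure Crd (d : G) (E N : Type*) [Field E] [AddCommGroup N] [Module E N] where
  ι : G → E
  π : G → N
  κ : QuadraticForm E N
  two : (2 : E) = 0
  card : Nat.card E = T.q
  π_mul : ∀ {x y}, x ∈ T.Q d → y ∈ T.Q d → π (x * y) = π x + π y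
  π_eq_zero : ∀ {x}, x ∈ T.Q d → (π x = 0 ↔ x ∈ T.A d)
  π_surj : ∀ n, ∃ x ∈ T.Q d, π x = n
  ι_mul : ∀ {a b}, a ∈ T.A d → b ∈ T.A d → ι (a * b) = ι a + ι b
  ι_eq_zero : ∀ {a}, a ∈ T.A d → (ι a = 0 ↔ a = 1)
  ι_surj : ∀ s, ∃ a ∈ T.A d, ι a = s
  κ_π : ∀ {x}, x ∈ T.Q d → κ (π x) = ι (x * x)
  polar_π : ∀ {x y}, x ∈ T.Q d → y ∈ T.Q d → QuadraticMap.polar κ (π x) (π y) = ι ⁅x, y⁆
  line : ∀ {e x}, T.Col d e → x ∈ T.Q d → (x ∈ T.V d e ↔ ∃ s : E, π x = s • π e)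
  lin : ∀ g ∈ 𝒩(T.Q d), g ∈ 𝒞(T.A d) → ∃ f : N ≃ₗ[E] N, ∀ x ∈ T.Q d, π (g * x * g⁻¹) = f (π x)

variable {T} {a b c d e f g x y : G}

theorem mem_Q (hx : x ∈ T.D) (h : x * d = d * x) : x ∈ T.Q d := subset_closure ⟨hx, h⟩

theorem self_mem_Q (hd : d ∈ T.D) : d ∈ T.Q d := mem_Q hd rfl

theorem self_mem_A (hd : d ∈ T.D) : d ∈ T.A d := subset_closure ⟨hd, rfl⟩

theorem Q_le_iff {H : Subgroup G} : T.Q d ≤ H ↔ ∀ x ∈ T.D, x * d = d * x → x ∈ H :=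
  (closure_le _).trans ⟨fun h _ hx e => h ⟨hx, e⟩, fun h x hx => h x hx.1 hx.2⟩

theorem comm_of_mem_Q (hx : x ∈ T.Q d) : x * d = d * x :=
  mem_centralizer_singleton_iff.1 ((Q_le_iff (H := 𝒞[d])).2 (fun _ _ e => mem_centralizer_singleton_iff.2 e) hx)

theorem mem_Y : x ∈ T.Y d e ↔ x ∈ T.Q d ∧ x * e = e * x :=
  and_congr_right fun _ => mem_centralizer_singleton_iff

theorem mem_W : x ∈ T.W d e ↔ x ∈ T.Q d ∧ x ∈ T.Q e := Iff.rfl

theorem mem_Z : x ∈ T.Z d ↔ x ∈ T.Q d ∧ ∀ y ∈ T.Q d, y * x = x * y := Iff.rfl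

theorem mem_K : x ∈ T.K d ↔ x ∈ 𝒩(T.Q d) ∧ ∀ e, T.Col d e → x ∈ 𝒩(T.V d e) := by
  simp only [K, mem_inf, mem_iInf]

theorem L_le_iff {H : Subgroup G} : T.L d ≤ H ↔ T.Q d ≤ H ∧ ∀ e, T.Col d e → T.Y e d ≤ H := by
  simp only [L, sup_le_iff, iSup_le_iff]

theorem inv_eq (hd : d ∈ T.D) : d⁻¹ = d := inv_eq_of_mul_eq_one_right (T.sq hd)

theorem conj_iff (g : G) : g * d * g⁻¹ ∈ T.D ↔ d ∈ T.D :=
  ⟨fun h => by simpa [mul_assoc] using T.conj h g⁻¹, fun h => T.conj h g⟩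

theorem V_comm (d e : G) : T.V d e = T.V e d := sup_comm _ _
theorem W_comm (d e : G) : T.W d e = T.W e d := inf_comm _ _
theorem R_comm (d e : G) : T.R d e = T.R e d := sup_comm _ _
theorem X_comm (d e : G) : T.X d e = T.X e d := sup_comm _ _

theorem Y_le_Q (d e : G) : T.Y d e ≤ T.Q d := inf_le_left
theorem W_le_Q (d e : G) : T.W d e ≤ T.Q d := inf_le_left
theorem W_le_Y (d e : G) : T.W d e ≤ T.Y d e := fun _ h => mem_Y.2 ⟨h.1, comm_of_mem_Q h.2⟩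
theorem Y_le_R (d e : G) : T.Y d e ≤ T.R d e := le_sup_left
theorem Y_le_R' (d e : G) : T.Y e d ≤ T.R d e := le_sup_right
theorem A_le_V (d e : G) : T.A d ≤ T.V d e := le_sup_left
theorem A_le_V' (d e : G) : T.A e ≤ T.V d e := le_sup_right
theorem Q_le_X (d e : G) : T.Q d ≤ T.X d e := le_sup_left
theorem Q_le_X' (d e : G) : T.Q e ≤ T.X d e := le_sup_right
theorem Q_le_L (d : G) : T.Q d ≤ T.L d := le_sup_left
theorem Col.Y_le_L (h : T.Col d e) : T.Y e d ≤ T.L d := (L_le_iff.1 le_rfl).2 e h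
theorem Col.R_le_L (h : T.Col d e) : T.R d e ≤ T.L d := sup_le ((Y_le_Q d e).trans (Q_le_L d)) h.Y_le_L

theorem Col.mem_Q (h : T.Col d e) : e ∈ T.Q d := Tm.mem_Q h.r h.comm.symm

theorem Ang.symm (h : T.Ang a b c) : T.Ang c b a := ⟨h.r, h.l, h.nc.symm⟩
theorem Pth.symm (h : T.Pth a b c x) : T.Pth x c b a := ⟨h.r.symm, h.l.symm⟩
theorem Near.symm (h : T.Near x y) : T.Near y x := h.imp fun _ k => ⟨k.1, k.2.2, k.2.1⟩
theorem Far.symm (h : T.Far x y) : T.Far y x := ⟨h.r, h.l, fun k => h.not_near k.symm⟩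
theorem U_symm (a b c x : G) : T.U a b c x = T.U x c b a := by rw [U, U, W_comm, inf_right_comm]

theorem conj_comm_iff {g x y : G} :
    g * x * g⁻¹ * (g * y * g⁻¹) = g * y * g⁻¹ * (g * x * g⁻¹) ↔ x * y = y * x := by
  simp only [conj_mul, mul_left_inj, mul_right_inj]

theorem cj_Q (g d : G) : cj g (T.Q d) = T.Q (g * d * g⁻¹) := by
  have key : ∀ g d : G, cj g (T.Q d) ≤ T.Q (g * d * g⁻¹) := fun g d =>
    map_le_iff_le_comap.2 (Q_le_iff.2 fun x hx e => mem_Q (T.conj hx g) (conj_comm_iff.2 e))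
  refine le_antisymm (key g d) ?_
  rw [← cj_le_cj_iff g⁻¹, cj_inv_cj]
  simpa [mul_assoc] using key g⁻¹ (g * d * g⁻¹)

theorem cj_A (g d : G) : cj g (T.A d) = T.A (g * d * g⁻¹) := by
  have key : ∀ g d : G, cj g (T.A d) ≤ T.A (g * d * g⁻¹) := fun g d =>
    map_le_iff_le_comap.2 ((closure_le _).2 fun x hx =>
      subset_closure (k := {e | e ∈ T.D ∧ T.Q e = T.Q (g * d * g⁻¹)})
        ⟨T.conj hx.1 g, by rw [← cj_Q, ← hx.2, cj_Q]; rfl⟩)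
  refine le_antisymm (key g d) ?_
  rw [← cj_le_cj_iff g⁻¹, cj_inv_cj]
  simpa [mul_assoc] using key g⁻¹ (g * d * g⁻¹)

theorem cj_V (g d e : G) : cj g (T.V d e) = T.V (g * d * g⁻¹) (g * e * g⁻¹) := by
  rw [V, V, cj_sup, cj_A, cj_A]

theorem cj_Y (g d e : G) : cj g (T.Y d e) = T.Y (g * d * g⁻¹) (g * e * g⁻¹) := by
  rw [Y, Y, cj_inf, cj_Q, cj_centralizer_singleton]

theorem cj_W (g d e : G) : cj g (T.W d e) = T.W (g * d * g⁻¹) (g * e * g⁻¹) := by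
  rw [W, W, cj_inf, cj_Q, cj_Q]

theorem cj_R (g d e : G) : cj g (T.R d e) = T.R (g * d * g⁻¹) (g * e * g⁻¹) := by
  rw [R, R, cj_sup, cj_Y, cj_Y]

theorem cj_X (g d e : G) : cj g (T.X d e) = T.X (g * d * g⁻¹) (g * e * g⁻¹) := by
  rw [X, X, cj_sup, cj_Q, cj_Q]

theorem cj_Z (g d : G) : cj g (T.Z d) = T.Z (g * d * g⁻¹) := by
  rw [Z, Z, cj_inf, cj_centralizer, cj_Q]

theorem cj_U (g a b c x : G) :
    cj g (T.U a b c x) = T.U (g * a * g⁻¹) (g * b * g⁻¹) (g * c * g⁻¹) (g * x * g⁻¹) := by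
  rw [U, U, cj_inf, cj_inf, cj_W, cj_centralizer, cj_centralizer, cj_A, cj_A]

theorem Col.conj (h : T.Col d e) (g : G) : T.Col (g * d * g⁻¹) (g * e * g⁻¹) :=
  ⟨T.conj h.l g, T.conj h.r g, conj_comm_iff.2 h.comm, by rw [← cj_A, conj_mem_cj]; exact h.nm⟩

theorem col_conj_iff (g : G) : T.Col (g * d * g⁻¹) (g * e * g⁻¹) ↔ T.Col d e :=
  ⟨fun h => by simpa [mul_assoc] using h.conj g⁻¹, fun h => h.conj g⟩

theorem Ang.conj (h : T.Ang a b c) (g : G) : T.Ang (g * a * g⁻¹) (g * b * g⁻¹) (g * c * g⁻¹) :=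
  ⟨h.l.conj g, h.r.conj g, fun e => h.nc (conj_comm_iff.1 e)⟩

theorem Pth.conj (h : T.Pth a b c x) (g : G) :
    T.Pth (g * a * g⁻¹) (g * b * g⁻¹) (g * c * g⁻¹) (g * x * g⁻¹) := ⟨h.l.conj g, h.r.conj g⟩

theorem Near.conj (h : T.Near x y) (g : G) : T.Near (g * x * g⁻¹) (g * y * g⁻¹) := by
  obtain ⟨w, hw, h1, h2⟩ := h
  exact ⟨_, T.conj hw g, conj_comm_iff.2 h1, conj_comm_iff.2 h2⟩

theorem cj_L (g d : G) : cj g (T.L d) = T.L (g * d * g⁻¹) := by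
  have key : ∀ g d : G, cj g (T.L d) ≤ T.L (g * d * g⁻¹) := fun g d =>
    map_le_iff_le_comap.2 (L_le_iff.2 ⟨map_le_iff_le_comap.1 ((cj_Q g d).le.trans (Q_le_L _)),
      fun e h => map_le_iff_le_comap.1 ((cj_Y g e d).le.trans (h.conj g).Y_le_L)⟩)
  refine le_antisymm (key g d) ?_
  rw [← cj_le_cj_iff g⁻¹, cj_inv_cj]
  simpa [mul_assoc] using key g⁻¹ (g * d * g⁻¹)

theorem cj_K (g d : G) : cj g (T.K d) = T.K (g * d * g⁻¹) := by
  ext x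
  rw [mem_cj, mem_K, mem_K, ← cj_Q, ← cj_normalizer, mem_cj]
  refine and_congr_right fun _ => ⟨fun h e k => ?_, fun h e k => ?_⟩
  · have := h (g⁻¹ * e * g) ((col_conj_iff g).1 (by simpa [mul_assoc] using k))
    rw [← mem_cj, cj_normalizer, cj_V] at this
    simpa [mul_assoc] using this
  · have := h _ (k.conj g)
    rwa [← cj_V, ← cj_normalizer, mem_cj] at this

end Tm

end CfsgLib.Tim
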